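import Cfsg.Agent.Lib.Lie.MultExc.SpSixTwo.Table
import Cfsg.Agent.Lib.Sp.Basic
import Cfsg.Agent.Lib.Classical.SpOrder
import Cfsg.Agent.Lib.Classical.PSpSimple

/-!
The symplectic group in six dimensions over two elements is the tabulated group of the sixty-three nonzero vectors.
-/

set_option autoImplicit false
set_option maxRecDepth 100000

namespace CfsgLib.Lie.MultExc.SpSixTwo

open CfsgLib.Spor.PermCert CfsgLib.Sp Matrix

universe u

local notation "V2" => (Fin 3 ⊕ Fin 3 → ZMod 2)

/-- The vector with given bits. -/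
def vec (k : ℕ) : V2 := fun i => match i with
  | .inl j => if Nat.testBit k j.1 then 1 else 0
  | .inr j => if Nat.testBit k (j.1 + 3) then 1 else 0

/-- The bits of a vector. -/
def code (x : V2) : ℕ :=
  (x (.inl 0)).val + 2 * (x (.inl 1)).val + 4 * (x (.inl 2)).val + 8 * (x (.inr 0)).val +
    16 * (x (.inr 1)).val + 32 * (x (.inr 2)).val

/-- The form on the tables. -/
def form (u v : V2) : ZMod 2 := ∑ i : Fin 3, (u (.inr i) * v (.inl i) - u (.inl i) * v (.inr i))

/-- A transvection on the tables. -/
def tstep (v x : V2) : V2 := fun i => x i + form x v * v i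

/-- The generators as products of transvections. -/
def genWords : List (List ℕ) := [[3, 6, 48, 2], [24, 32, 4, 1]]

theorem code_spec : ∀ x : V2, code x < 64 ∧ (∀ i, vec (code x) i = x i) ∧
    (code x = 0 → ∀ i, x i = 0) := by
  decide +kernel

theorem code_vec : ∀ i : Fin 63, code (vec (i.1 + 1)) = i.1 + 1 := by decide +kernel

theorem images_ok : ∀ s : Fin 2, ∀ i : Fin 63,
    code ((genWords.getD s.1 []).foldr (fun v x => tstep (vec v) x) (vec (i.1 + 1))) =
      look tab.w tab.R s.1 i.1 + 1 := by
  decide +kernel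

theorem moved : look tab.w tab.R 0 0 ≠ 0 ∨ look tab.w tab.R 0 1 ≠ 1 ∨ look tab.w tab.R 1 0 ≠ 0 := by
  decide +kernel

variable {F : Type u} [Field F] [Fintype F] (hF : Fintype.card F = 2)

include hF

theorem neg_eq_self (A : Matrix (Fin 3 ⊕ Fin 3) (Fin 3 ⊕ Fin 3) F) : -A = A := by
  haveI : CharP F 2 := by
    haveI := Fact.mk Nat.prime_two
    exact charP_of_card_eq_prime_pow (p := 2) (f := 1) (by rw [hF, pow_one])
  ext i j
  exact CharTwo.neg_eq _

theorem pr_injective : Function.Injective (pr : Matrix.symplecticGroup (Fin 3) F → Cfsg.PSp 3 F) := fun A B h => by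
  rcases (pr_eq_iff (by norm_num)).1 h with h | h
  · exact Subtype.ext h.symm
  · exact Subtype.ext (by rw [h, neg_eq_self hF])

theorem exists_spModel : ∃ H : Subgroup (Equiv.Perm (Fin 63)), Model 63 tab H ∧
    Nonempty (↥H ≃* Cfsg.PSp 3 F) := by
  classical
  let ι : ZMod 2 ≃+* F := FiniteField.ringEquivOfCardEq ((ZMod.card 2).trans hF.symm)
  let e' : Matrix.symplecticGroup (Fin 3) F ≃* Cfsg.PSp 3 F :=
    MulEquiv.ofBijective pr ⟨pr_injective hF, QuotientGroup.mk'_surjective _⟩
  haveI := CfsgLib.Classical.psp_isSimple (F := F) (m := 3) (by norm_num) (by omega)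
  haveI : IsSimpleGroup (Matrix.symplecticGroup (Fin 3) F) := by
    haveI : Nontrivial (Matrix.symplecticGroup (Fin 3) F) := e'.toEquiv.nontrivial
    exact IsSimpleGroup.isSimpleGroup_of_surjective e'.symm.toMonoidHom e'.symm.surjective
  have hcard : Nat.card (Matrix.symplecticGroup (Fin 3) F) = 1451520 := by
    rw [CfsgLib.Classical.card_symplectic, hF]
    norm_num [Finset.prod_range_succ]
  letI : MulAction (Matrix.symplecticGroup (Fin 3) F) (Fin 3 ⊕ Fin 3 → F) :=
    { smul := fun A x => A.1 *ᵥ x
      one_smul := fun x => one_mulVec x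
      mul_smul := fun A B x => sp_mul_mulVec A B x }
  have hcode : ∀ x : Fin 3 ⊕ Fin 3 → F, x ≠ 0 → ∃ j : Fin 63, x = fun q => ι (vec (j.1 + 1) q) := by
    intro x hx
    obtain ⟨h1, h2, h3⟩ := code_spec fun q => ι.symm (x q)
    have h0 : code (fun q => ι.symm (x q)) ≠ 0 := fun h0 => hx (funext fun q => by
      have := congrArg ι (h3 h0 q)
      rwa [ι.apply_symm_apply, map_zero] at this)
    refine ⟨⟨code (fun q => ι.symm (x q)) - 1, by omega⟩, funext fun q => ?_⟩
    show x q = ι (vec (code (fun q => ι.symm (x q)) - 1 + 1) q)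
    rw [Nat.sub_add_cancel (Nat.one_le_iff_ne_zero.2 h0), h2, ι.apply_symm_apply]
  have hne : ∀ i : Fin 63, (fun q => ι (vec (i.1 + 1) q)) ≠ (0 : Fin 3 ⊕ Fin 3 → F) := fun i h => by
    have h' : vec (i.1 + 1) = 0 := funext fun q => ι.injective ((congrFun h q).trans (map_zero ι).symm)
    have := code_vec i
    rw [h', show code (0 : V2) = 0 from rfl] at this
    omega
  have hsf : ∀ u v : V2, sf (fun q => ι (u q)) (fun q => ι (v q)) = ι (form u v) := fun u v => by
    rw [sf_eq, form, map_sum]
    simp only [map_sub, map_mul]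
  have hstep : ∀ v x : V2, (tv (fun q => ι (v q)) (1 : F)).1 *ᵥ (fun q => ι (x q)) =
      fun q => ι (tstep v x q) := fun v x => by
    rw [tv_mulVec, one_mul, hsf]
    funext q
    simp only [tstep, Pi.add_apply, Pi.smul_apply, smul_eq_mul, map_add, map_mul]
  let word : List ℕ → Matrix.symplecticGroup (Fin 3) F := fun l =>
    (l.map fun v => tv (fun q => ι (vec v q)) (1 : F)).prod
  have hword : ∀ (l : List ℕ) (x : V2), (word l).1 *ᵥ (fun q => ι (x q)) =
      fun q => ι (l.foldr (fun v y => tstep (vec v) y) x q) := by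
    intro l
    induction l with
    | nil => intro x; exact one_mulVec _
    | cons v l ih =>
      intro x
      simp only [word, List.map_cons, List.prod_cons, List.foldr_cons]
      rw [sp_mul_mulVec, ih, hstep]
  obtain ⟨H, M, ⟨f⟩⟩ := exists_model tab (G := Matrix.symplecticGroup (Fin 3) F)
    (fun i : Fin 63 => fun q => ι (vec (i.1 + 1) q))
    (fun i j h => by
      have h' : vec (i.1 + 1) = vec (j.1 + 1) := funext fun q => ι.injective (congrFun h q)
      have := code_vec i
      rw [h', code_vec j] at this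
      exact Fin.ext (by omega))
    (fun g i => by
      refine hcode _ fun h => hne i ?_
      have := congrArg (fun y => g⁻¹ • y) h
      simp only [inv_smul_smul] at this
      rw [this]
      exact mulVec_zero _)
    (fun s => word (genWords.getD s []))
    (fun s hs i => by
      have hs2 : s < 2 := hs
      have him : code ((genWords.getD s []).foldr (fun v x => tstep (vec v) x) (vec (i.1 + 1))) =
          look tab.w tab.R s i.1 + 1 := images_ok ⟨s, hs2⟩ i
      have hlt : look tab.w tab.R s i.1 < 63 := by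
        have := (code_spec ((genWords.getD s []).foldr (fun v x => tstep (vec v) x) (vec (i.1 + 1)))).1
        omega
      refine ⟨⟨_, hlt⟩, rfl, ?_⟩
      show (word (genWords.getD s [])).1 *ᵥ _ = _
      rw [hword]
      funext q
      show _ = ι (vec (look tab.w tab.R s i.1 + 1) q)
      rw [← him, (code_spec _).2.1 q])
    (by
      rcases moved with h | h | h
      · exact ⟨0, by decide, ⟨0, by norm_num⟩, h⟩
      · exact ⟨0, by decide, ⟨1, by norm_num⟩, h⟩
      · exact ⟨1, by decide, ⟨0, by norm_num⟩, h⟩)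
    (by rw [hcard]; exact tab_ok)
  exact ⟨H, M, ⟨f.trans e'⟩⟩

end CfsgLib.Lie.MultExc.SpSixTwo
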