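import Cfsg.Agent.Lib.Lie.MultExc.SpSixTwo.Table

/-!
The certificate at the prime 2: a polycyclic sequence of a Sylow subgroup and conjugations.
-/

set_option autoImplicit false
set_option maxRecDepth 100000
set_option maxHeartbeats 0

namespace CfsgLib.Lie.MultExc.SpSixTwo.P2

open CfsgLib.Spor.SchurCert

/-- The Sylow elements. -/
def sw : List (List ℕ) := [
    [57, 85, 138, 148, 167],
    [19, 120, 150, 148, 167, 174],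
    [19, 94, 154, 156, 174],
    [164, 174],
    [81, 108, 155, 135, 168, 174],
    [57, 85, 138, 143, 168, 174],
    [144, 164, 174],
    [148, 168, 174],
    [144, 167, 174]]

/-- The conjugating elements. -/
def gw : List (List ℕ) := [
    [72, 112, 138, 158, 167, 174],
    [53, 111, 155, 157],
    [47, 124, 154, 164],
    [21, 102, 150, 167],
    [0, 99, 155, 148, 164, 174],
    [67, 104, 135, 167, 174],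
    [92, 136, 144],
    [59, 90, 154, 158, 168],
    [74, 119, 149, 148, 168, 174],
    [5, 125, 118, 144, 164, 174],
    [56, 128, 149],
    [44, 97, 118, 143, 164, 174],
    [23, 129, 152, 156, 164, 174],
    [44, 128, 152, 158, 167, 174]]

/-- The certificate. -/
def cert : CfsgLib.Spor.SchurCert.Cert where
  p := 2
  m := 9
  N := 4
  rules := [
    ([0, 0], [6]),
    ([1, 1], [4, 8]),
    ([2, 2], [3, 4, 6, 8]),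
    ([3, 3], []),
    ([4, 4], []),
    ([5, 5], []),
    ([6, 6], []),
    ([7, 7], []),
    ([8, 8], []),
    ([1, 0], [0, 1, 4, 5]),
    ([2, 0], [0, 2, 3, 4, 6]),
    ([2, 1], [1, 2, 3, 8]),
    ([3, 0], [0, 3]),
    ([3, 1], [1, 3, 5, 8]),
    ([3, 2], [2, 3, 5, 8]),
    ([4, 0], [0, 4, 6]),
    ([4, 1], [1, 4]),
    ([4, 2], [2, 4, 5, 8]),
    ([4, 3], [3, 4, 6]),
    ([5, 0], [0, 5, 6]),
    ([5, 1], [1, 5, 6]),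
    ([5, 2], [2, 5, 6]),
    ([5, 3], [3, 5]),
    ([5, 4], [4, 5]),
    ([6, 0], [0, 6]),
    ([6, 1], [1, 6]),
    ([6, 2], [2, 6]),
    ([6, 3], [3, 6]),
    ([6, 4], [4, 6]),
    ([6, 5], [5, 6]),
    ([7, 0], [0, 7]),
    ([7, 1], [1, 7]),
    ([7, 2], [2, 7, 8]),
    ([7, 3], [3, 7]),
    ([7, 4], [4, 7]),
    ([7, 5], [5, 7]),
    ([7, 6], [6, 7]),
    ([8, 0], [0, 8]),
    ([8, 1], [1, 8]),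
    ([8, 2], [2, 8]),
    ([8, 3], [3, 8]),
    ([8, 4], [4, 8]),
    ([8, 5], [5, 8]),
    ([8, 6], [6, 8]),
    ([8, 7], [7, 8])]
  maps := [
    [([0, 1, 3, 5], [0, 1, 3, 5]), ([4, 5], [0, 1, 3, 5, 7]), ([7], [0, 1, 3, 4])],
    [([0, 4], [3, 5, 6, 7]), ([3, 5, 8], [3, 5, 8]), ([6], [0, 3, 4, 5, 6, 7]), ([7, 8], [7, 8])],
    [([0], [3, 4, 5, 6, 8]), ([1, 2], [0, 1, 2, 4, 5, 6, 8]), ([3], [5, 6]), ([4], [0, 3, 5, 8]), ([5], [3, 6]), ([6], [6]), ([7], [7]), ([8], [8])],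
    [([0], [0, 3, 4, 6]), ([3], [4, 6, 7]), ([4], [3, 6, 7]), ([5], [0, 3, 5, 6, 7, 8]), ([6], [6]), ([7], [7]), ([8], [6, 7, 8])],
    [([0, 4], [0, 1, 3, 5, 6, 7, 8]), ([1, 2, 4], [0, 2, 4, 5, 6, 7, 8]), ([3], [1, 2, 4, 6, 7, 8]), ([5], [1, 2, 4, 6, 7]), ([6], [5]), ([7], [0, 1, 3, 4]), ([8], [5, 6, 8])],
    [([0, 4, 7], [0, 3, 4, 5, 6, 7, 8]), ([1, 2, 4, 7], [1, 2, 4, 7]), ([3], [1, 2, 3, 4, 6, 7]), ([5], [1, 2, 3, 4, 6, 7, 8]), ([6], [3, 5, 6, 8]), ([8], [3, 5])],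
    [([0, 7], [0, 1, 2, 3, 4, 5, 6]), ([1, 2, 4, 7], [5, 8]), ([3], [3]), ([5], [1, 2, 3, 4, 6, 7, 8]), ([6], [3, 6]), ([8], [3, 8])],
    [([0, 2, 3, 8], [0, 2, 3, 5, 8]), ([1, 2], [1, 2, 5]), ([4, 7, 8], [0, 2, 3, 4, 5, 7]), ([5], [5]), ([6, 8], [0, 1, 3, 4, 5, 6, 8])],
    [([0, 2, 4, 7], [0, 1, 4, 6, 8]), ([1, 2, 4, 7], [5, 8]), ([3], [3, 5, 6, 8]), ([5], [5]), ([6], [1, 2, 4, 5, 6, 7, 8]), ([8], [1, 2, 4, 5, 7])],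
    [([0, 2], [0, 1, 6, 7, 8]), ([1, 2], [1, 2, 5]), ([3], [1, 2, 3, 4, 5, 7]), ([4], [0, 1, 3, 4, 5, 7]), ([5], [5]), ([6], [5, 6]), ([7], [0, 1, 3, 5]), ([8], [5, 8])],
    [([0, 2, 3, 8], [0, 2, 3, 5]), ([1, 2], [1, 2, 5, 8]), ([4, 7, 8], [0, 2, 3, 4, 5, 7, 8]), ([5], [5]), ([6, 8], [0, 1, 3, 4, 5, 6, 8])],
    [([0, 4, 7], [0, 3, 4, 5, 6, 7, 8]), ([1, 2, 4, 7], [1, 2, 3, 4, 5, 6, 7, 8]), ([3], [1, 2, 4, 5, 6, 7, 8]), ([5], [1, 2, 4, 5, 6, 7]), ([6], [3, 5, 6, 8]), ([8], [3, 5])],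
    [([0, 2], [1, 2, 3, 5, 6, 7, 8]), ([1, 2], [3, 4, 7, 8]), ([3], [1, 2, 4, 5, 6, 7, 8]), ([4], [0, 1, 3, 5, 6, 7, 8]), ([5], [6]), ([6], [5]), ([7], [0, 1, 3, 4, 5, 6, 8]), ([8], [5, 6, 8])],
    [([0, 2], [1, 2, 3, 5, 6, 7, 8]), ([1, 2], [3, 4, 7, 8]), ([3], [1, 2, 4, 5, 6, 7, 8]), ([4], [0, 1, 3, 5, 6, 7, 8]), ([5], [6]), ([6], [5]), ([7], [0, 1, 3, 4, 5, 6, 8]), ([8], [5, 6, 8])]]
  overlaps := [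
    ([0, 0, 0], [(0, 0), (24, 0)], [(0, 1)]),
    ([1, 1, 1], [(1, 0), (38, 1), (16, 0)], [(1, 1)]),
    ([1, 1, 0], [(1, 0), (37, 1), (15, 0)], [(9, 1), (9, 0), (20, 3), (16, 2), (1, 1), (41, 2), (4, 1), (42, 1), (43, 2), (41, 3), (28, 2), (23, 1), (42, 4), (29, 3), (5, 2)]),
    ([1, 0, 0], [(0, 1)], [(9, 0), (19, 3), (15, 2), (9, 1), (0, 0), (25, 0), (28, 1), (29, 2), (28, 3), (23, 2), (4, 1), (6, 2), (5, 1)]),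
    ([2, 2, 2], [(2, 0), (39, 3), (26, 2), (17, 1), (14, 0), (41, 3), (23, 2), (42, 4), (5, 3), (8, 3)], [(2, 1)]),
    ([2, 2, 0], [(2, 0), (37, 3), (24, 2), (15, 1), (12, 0), (6, 3)], [(10, 1), (10, 0), (26, 4), (17, 3), (14, 2), (2, 1), (40, 4), (27, 3), (18, 2), (3, 1), (6, 2), (42, 2), (8, 3), (23, 2), (4, 1), (5, 1), (43, 1), (40, 2), (27, 1), (41, 3), (28, 2), (43, 4), (6, 3)]),
    ([2, 0, 0], [(0, 1)], [(10, 0), (24, 4), (15, 3), (12, 2), (10, 1), (0, 0), (26, 0), (27, 1), (28, 2), (6, 3), (18, 2), (3, 1), (28, 2), (4, 1), (6, 1)]),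
    ([2, 2, 1], [(2, 0), (38, 3), (25, 2), (16, 1), (13, 0), (41, 3), (23, 2), (43, 4), (8, 5)], [(11, 1), (11, 0), (39, 3), (14, 2), (2, 1), (40, 4), (27, 3), (18, 2), (3, 1), (6, 2), (42, 2), (8, 3), (40, 3), (22, 2), (18, 1), (29, 3), (8, 5)]),
    ([2, 1, 1], [(1, 1)], [(11, 0), (38, 3), (13, 2), (11, 1), (1, 0), (39, 1), (17, 0), (8, 3), (22, 2), (18, 1), (29, 3), (40, 5), (27, 4), (22, 3), (18, 2), (3, 1), (29, 2), (6, 3), (42, 3), (5, 2), (8, 2)]),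
    ([2, 1, 0], [(11, 0), (37, 3), (12, 2), (10, 1), (9, 0), (21, 3), (17, 2), (42, 5), (5, 4), (43, 4), (40, 5), (27, 4), (18, 3), (6, 5), (41, 5), (4, 4), (43, 4), (40, 5), (27, 4), (3, 3), (8, 4)], [(9, 1), (10, 0), (25, 4), (16, 3), (13, 2), (11, 1), (40, 4), (3, 3), (42, 3), (8, 4), (23, 3), (28, 5), (23, 4), (4, 3), (29, 4), (5, 3)]),
    ([3, 0, 0], [(0, 1)], [(12, 0), (12, 1), (0, 0), (27, 0)]),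
    ([3, 3, 1], [(3, 0)], [(13, 1), (13, 0), (40, 3), (22, 2), (3, 1), (42, 2), (5, 1), (8, 1)]),
    ([3, 1, 1], [(1, 1)], [(13, 0), (38, 3), (20, 2), (13, 1), (1, 0), (40, 1), (18, 0), (42, 3), (29, 2), (8, 4), (29, 3), (5, 2), (6, 2)]),
    ([3, 1, 0], [(13, 0), (37, 3), (19, 2), (12, 1), (9, 0), (22, 3), (18, 2), (29, 4), (29, 5), (5, 4), (6, 4)], [(9, 1), (12, 0), (13, 1), (41, 4), (23, 3), (42, 5), (5, 4)]),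
    ([3, 2, 2], [(2, 1), (3, 0)], [(14, 0), (39, 3), (21, 2), (14, 1), (2, 0), (40, 3), (27, 2), (18, 1), (3, 0), (6, 1), (42, 1), (8, 2), (5, 1)]),
    ([3, 2, 0], [(14, 0), (37, 3), (19, 2), (12, 1), (10, 0), (27, 4), (18, 3), (3, 2), (6, 3)], [(10, 1), (12, 0), (14, 1), (40, 4), (22, 3), (3, 2), (41, 3), (23, 2), (43, 4)]),
    ([3, 2, 1], [(14, 0), (38, 3), (20, 2), (13, 1), (11, 0), (40, 3), (3, 2), (42, 2), (8, 3), (5, 2)], [(11, 1), (13, 0), (39, 3), (21, 2), (14, 1), (42, 4), (5, 3), (43, 3), (8, 4), (27, 3), (3, 2)]),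
    ([4, 4, 0], [(4, 0)], [(15, 1), (15, 0), (28, 2), (4, 1), (6, 1)]),
    ([4, 1, 1], [(1, 1), (4, 0)], [(16, 0), (16, 1), (1, 0), (41, 1), (4, 0)]),
    ([4, 1, 0], [(16, 0), (15, 1), (9, 0), (23, 3), (4, 2)], [(9, 1), (15, 0), (25, 2), (16, 1), (28, 3), (4, 2), (29, 2)]),
    ([4, 4, 2], [(4, 0)], [(17, 1), (17, 0), (41, 3), (23, 2), (4, 1), (42, 2), (5, 1), (8, 1)]),
    ([4, 2, 2], [(2, 1), (18, 0), (28, 2), (4, 1), (6, 1)], [(17, 0), (39, 3), (21, 2), (17, 1), (2, 0), (41, 3), (28, 2), (4, 1), (42, 2), (29, 1), (8, 3), (29, 2), (5, 1), (6, 1)]),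
    ([4, 2, 0], [(17, 0), (37, 3), (19, 2), (15, 1), (10, 0), (28, 4), (4, 3), (6, 3)], [(10, 1), (15, 0), (26, 2), (17, 1), (43, 4), (40, 5), (27, 4), (22, 3), (18, 2), (29, 4), (6, 5), (41, 5), (23, 4), (4, 3), (43, 4)]),
    ([4, 3, 1], [(18, 0), (25, 2), (16, 1), (13, 0), (41, 3), (23, 2), (43, 4)], [(13, 1), (16, 0), (18, 1), (29, 3)]),
    ([7, 0, 0], [(0, 1), (36, 0)], [(30, 0), (30, 1), (0, 0)]),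
    ([7, 1, 1], [(1, 1), (34, 0)], [(31, 0), (31, 1), (1, 0), (44, 1)]),
    ([7, 1, 0], [(31, 0), (30, 1), (9, 0)], [(9, 1), (30, 0), (31, 1), (34, 2), (35, 3)]),
    ([7, 7, 2], [(7, 0)], [(32, 1), (32, 0), (44, 2), (7, 1), (8, 1)]),
    ([7, 2, 2], [(2, 1), (33, 0), (34, 1), (36, 2)], [(32, 0), (39, 2), (32, 1), (2, 0), (44, 3), (8, 4)])]
  fuses := [
    ⟨0, [1, 0], [0, 1], [(19, 1), (15, 0), (29, 2), (6, 3), (20, 2), (16, 1), (27, 4), (22, 3), (18, 2), (29, 4), (6, 5), (5, 4)], [(23, 3), (5, 4)], [(30, 4), (19, 3), (12, 2), (9, 1), (0, 0), (25, 0), (28, 1), (29, 2), (27, 3), (22, 2), (18, 1), (29, 3), (6, 4), (5, 3), (31, 4), (25, 3), (16, 2), (13, 1), (1, 0), (40, 1), (18, 0), (42, 3), (29, 2), (8, 4), (28, 3), (23, 2), (4, 1), (6, 2), (33, 2), (22, 1), (3, 0), (35, 1), (5, 0)], [(19,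 3), (12, 2), (9, 1), (0, 0), (25, 0), (28, 1), (29, 2), (27, 3), (22, 2), (18, 1), (29, 3), (6, 4), (5, 3), (25, 3), (16, 2), (13, 1), (1, 0), (40, 1), (18, 0), (42, 3), (29, 2), (8, 4), (28, 3), (23, 2), (4, 1), (6, 2), (22, 1), (3, 0), (5, 0)]⟩,
    ⟨0, [1, 1], [], [(23, 1), (4, 0), (5, 0)], [], [(30, 4), (19, 3), (12, 2), (9, 1), (0, 0), (25, 0), (28, 1), (29, 2), (27, 3), (22, 2), (18, 1), (29, 3), (6, 4), (5, 3), (31, 4), (25, 3), (16, 2), (13, 1), (1, 0), (40, 1), (18, 0), (42, 3), (29, 2), (8, 4), (28, 3), (23, 2), (4, 1), (6, 2), (33, 2), (22, 1), (3, 0), (35, 1), (5, 0), (7, 0)], []⟩,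
    ⟨1, [0, 0], [], [(15, 1), (0, 0), (28, 0), (6, 1), (4, 0)], [], [(33, 3), (27, 2), (22, 1), (3, 0), (35, 2), (29, 1), (5, 0), (36, 1), (6, 0), (7, 0)], []⟩,
    ⟨1, [1, 0], [0, 1], [(37, 2), (19, 1), (12, 0), (41, 4), (28, 3), (23, 2)], [(18, 1), (29, 3)], [(40, 2), (22, 1), (3, 0), (42, 1), (5, 0), (43, 0), (44, 1)], [(33, 3), (27, 2), (22, 1), (3, 0), (35, 2), (29, 1), (5, 0)]⟩,
    ⟨1, [2, 0], [0, 2], [(24, 0), (28, 1)], [], [(33, 5), (27, 4), (22, 3), (18, 2), (3, 1), (29, 2), (6, 3), (35, 3), (5, 2), (36, 2), (7, 3)], [(30, 3), (24, 2), (19, 1), (12, 0), (6, 3), (33, 3), (22, 2), (3, 1), (34, 2), (23, 1), (35, 3), (5, 2), (36, 2), (7, 3)]⟩,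
    ⟨2, [0, 0], [5], [(0, 0)], [], [(40, 4), (27, 3), (22, 2), (18, 1), (3, 0), (29, 1), (6, 2), (41, 2), (23, 1), (4, 0), (42, 1), (5, 0), (43, 0), (8, 1)], []⟩,
    ⟨2, [2, 0], [0, 2], [(12, 0)], [], [(27, 1), (22, 0), (28, 2), (23, 1), (29, 3), (5, 2), (6, 2)], [(42, 4), (29, 3), (5, 2), (43, 3), (6, 2)]⟩,
    ⟨2, [3, 0], [0, 3, 5], [(15, 0)], [], [(40, 3), (22, 2), (3, 1), (41, 2), (23, 1), (42, 3), (5, 2), (43, 2), (8, 3)], [(37, 4), (24, 3), (19, 2), (15, 1), (12, 0), (29, 3), (6, 4), (40, 5), (27, 4), (22, 3), (18, 2), (3, 1), (29, 2), (6, 3), (42, 3), (5, 2), (8, 2)]⟩,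
    ⟨2, [4, 0], [0, 4, 5], [(19, 0)], [], [(27, 1), (3, 0), (28, 0), (29, 1), (6, 2)], [(40, 4), (27, 3), (22, 2), (18, 1), (3, 0), (29, 1), (6, 2), (43, 2), (43, 3), (6, 2)]⟩,
    ⟨3, [1, 0], [0, 1], [(12, 0)], [], [(30, 2), (24, 1), (15, 0), (6, 2), (33, 2), (18, 1), (34, 4), (28, 3), (4, 2), (36, 3), (6, 2)], [(28, 3), (4, 2), (6, 2)]⟩,
    ⟨4, [2, 1], [1, 2], [(13, 0), (39, 3), (21, 2), (14, 1), (42, 4), (5, 3), (43, 3), (8, 4), (28, 3)], [(18, 2)], [(37, 5), (30, 4), (24, 3), (15, 2), (10, 1), (9, 0), (21, 3), (17, 2), (42, 5), (5, 4), (43, 4), (40, 5), (27, 4), (18, 3), (6, 5), (41, 5), (4, 4), (43, 4), (41, 5), (28, 4), (43, 6), (6, 5), (43, 5), (44, 6), (8, 7), (32, 6), (26, 5), (17, 4), (14, 3), (2, 2), (40, 5), (27, 4), (18, 3), (3, 2), (6, 3), (42, 3), (8, 4), (23, 3), (4, 2),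 (5, 2), (43, 2), (44, 3), (8, 4), (34, 3), (28, 2), (35, 4), (29, 3), (36, 5), (6, 4), (7, 4)], [(38, 6), (31, 5), (25, 4), (20, 3), (16, 2), (11, 1), (41, 4), (42, 5), (43, 6), (43, 7), (6, 6), (44, 6), (8, 7), (32, 6), (21, 5), (17, 4), (14, 3), (2, 2), (40, 5), (27, 4), (18, 3), (3, 2), (6, 3), (42, 3), (8, 4), (23, 3), (4, 2), (5, 2), (42, 2), (43, 3), (44, 4), (8, 5), (34, 4), (28, 3), (23, 2), (36, 5), (6, 4), (7, 4)]⟩,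
    ⟨4, [2, 2], [], [(3, 0)], [], [(38, 5), (31, 4), (25, 3), (16, 2), (11, 1), (1, 0), (39, 1), (17, 0), (8, 3), (22, 2), (18, 1), (29, 3), (41, 5), (28, 4), (23, 3), (4, 2), (43, 4), (6, 3), (44, 3), (8, 4), (32, 3), (21, 2), (14, 1), (2, 0), (40, 3), (27, 2), (18, 1), (3, 0), (6, 1), (42, 1), (8, 2), (5, 1), (41, 3), (34, 2), (28, 1), (4, 0), (43, 2), (36, 1), (6, 0), (44, 1), (7, 0), (8, 0)], []⟩]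
  adj := [
    [(1, 1), (9, 1), (10, 1), (63, 1)],
    [(0, 1), (1, 1), (2, 1), (9, 1), (10, 1), (46, 1), (54, 1)],
    [(0, 1), (1, 1), (2, 1), (9, 1), (46, 1), (63, 1), (83, 1)],
    [(0, 3), (1, 1), (2, 3), (7, 1), (9, 2), (10, 2), (63, 2), (83, 2)],
    [(1, 1), (2, 3), (10, 3), (54, 2), (63, 2), (83, 2)],
    [(1, 3), (2, 1), (9, 1), (10, 1), (54, 2), (63, 2), (83, 2)],
    [(0, 1), (1, 2), (9, 2), (10, 2), (63, 2)],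
    [(2, 1), (10, 1), (54, 1), (63, 1)],
    [(0, 2), (1, 2), (2, 1), (7, 1), (9, 2), (10, 1), (46, 2), (54, 2), (83, 2)]]
  base := [
    ([(22, 1)], 2, [(0, 2), (1, 2), (2, 2), (3, 2), (4, 2), (7, 2), (8, 2), (9, 2), (10, 3), (12, 1), (13, 2), (15, 2), (16, 3), (17, 1), (19, 3), (21, 3), (22, 2), (23, 1), (24, 2), (25, 2), (26, 2), (32, 2), (33, 2), (35, 2), (38, 2)])]
  dense := [
    [0, 0, 0, 0, 0, 0, 0, 0, 0, 0, 0, 0, 0, 0, 0, 0, 0, 0, 0, 0, 0, 0, 0, 0, 1],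
    [0, 0, 0, 0, 0, 0, 0, 0, 0, 0, 0, 0, 0, 0, 0, 0, 1, 0, 0, 0, 0, 0, 0, 0, 0, 0, 0, 0, 0, 0, 0, 0, 0, 0, 0, 0, 0, 0, 1],
    [0, 0, 0, 0, 3, 3, 0, 0, 0, 2, 0, 0, 0, 0, 0, 1, 3, 0, 0, 0, 3, 0, 0, 3, 0, 0, 0, 0, 3, 3, 0, 0, 0, 0, 0, 0, 0, 1, 0, 0, 0, 2, 2, 3],
    [0, 0, 0, 0, 3, 3, 3, 0, 0, 2, 0, 0, 0, 0, 0, 3, 0, 0, 0, 3, 0, 0, 0, 3, 0, 3, 0, 0, 2, 3],
    [0, 0, 0, 0, 0, 1, 0, 0, 1, 0, 0, 0, 0, 0, 1, 0, 0, 1, 0, 0, 0, 0, 0, 1, 0, 0, 1, 0, 0, 0, 0, 0, 0, 0, 0, 0, 0, 0, 0, 1, 0, 1, 1],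
    [0, 0, 0, 3, 3, 3, 3, 0, 3, 0, 2, 0, 1, 0, 3, 1, 0, 3, 3, 0, 0, 0, 0, 3, 1, 0, 3, 2, 3, 0, 0, 0, 0, 0, 0, 0, 0, 1, 0, 0, 2, 3, 3, 2],
    [0, 0, 0, 3, 3, 0, 2, 0, 0, 0, 2, 0, 3, 0, 0, 3, 0, 0, 3, 0, 0, 0, 0, 0, 3, 0, 3, 3, 2],
    [0, 0, 0, 3, 0, 0, 3, 0, 3, 0, 0, 2, 0, 1, 3, 0, 1, 0, 2, 0, 0, 0, 3, 1, 0, 1, 0, 3, 0, 3, 0, 0, 0, 0, 0, 0, 0, 0, 1, 3, 2, 1, 3, 1],
    [0, 0, 0, 3, 0, 3, 3, 0, 2, 0, 0, 2, 0, 3, 0, 0, 0, 3, 2, 0, 0, 0, 2, 0, 0, 0, 0, 3, 0, 2, 0, 0, 0, 0, 0, 0, 0, 0, 3, 3, 3, 0, 3],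
    [0, 0, 0, 0, 0, 0, 1, 0, 0, 0, 0, 0, 1, 3, 0, 0, 3, 1, 1, 0, 0, 1, 0, 2, 0, 3, 0, 2, 3, 3, 0, 0, 0, 0, 0, 0, 0, 1, 0, 0, 1, 1, 0, 2],
    [0, 0, 0, 0, 0, 0, 0, 0, 0, 0, 0, 0, 2, 0, 0, 0, 0, 0, 0, 0, 0, 0, 0, 0, 0, 0, 0, 3],
    [0, 0, 0, 0, 0, 3, 0, 0, 3, 0, 0, 0, 0, 2, 0, 0, 0, 0, 0, 0, 0, 0, 3, 0, 0, 0, 0, 0, 0, 0, 0, 0, 0, 0, 0, 0, 0, 0, 0, 0, 3, 0, 3],
    [0, 0, 0, 0, 0, 3, 3, 0, 3, 0, 0, 0, 0, 2, 0, 0, 0, 0, 3, 0, 3, 0, 0, 0, 0, 0, 0, 0, 0, 2, 0, 0, 0, 0, 0, 0, 0, 0, 3, 0, 3, 0, 3],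
    [0, 0, 0, 0, 0, 0, 1, 0, 0, 0, 0, 0, 0, 0, 0, 0, 0, 0, 1, 1, 0, 0, 1, 3, 0, 0, 0, 0, 0, 2, 0, 0, 0, 0, 0, 0, 0, 1, 0, 0, 0, 3, 3],
    [0, 0, 0, 0, 0, 3, 3, 0, 3, 0, 0, 0, 0, 0, 2, 0, 0, 0, 3, 0, 0, 3, 0, 0, 0, 0, 0, 3, 0, 0, 0, 0, 0, 0, 0, 0, 0, 0, 0, 3, 3, 0, 3],
    [0, 0, 0, 0, 0, 0, 1, 0, 0, 0, 0, 0, 0, 0, 0, 0, 0, 0, 1, 1, 0, 0, 3, 3, 0, 0, 0, 1, 0, 0, 0, 0, 0, 0, 0, 0, 0, 1, 0, 0, 3, 3, 0, 3],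
    [0, 0, 0, 0, 0, 0, 0, 0, 0, 0, 0, 0, 0, 0, 0, 0, 0, 0, 0, 0, 1, 3, 0, 0, 0, 0, 0, 3, 0, 0, 0, 0, 0, 0, 0, 0, 0, 0, 1, 3, 1, 0, 0, 3],
    [0, 0, 0, 0, 0, 0, 3, 0, 0, 0, 0, 0, 0, 0, 0, 2, 0, 0, 0, 0, 0, 0, 0, 0, 0, 0, 0, 0, 3],
    [0, 0, 0, 0, 0, 0, 0, 0, 0, 0, 0, 0, 0, 0, 0, 0, 2, 0, 0, 0, 0, 0, 0, 0, 0, 0, 0, 0, 0, 0, 0, 0, 0, 0, 0, 0, 0, 0, 0, 0, 0, 3],
    [0, 0, 0, 0, 0, 0, 0, 0, 0, 0, 0, 0, 0, 0, 0, 0, 0, 0, 0, 0, 0, 0, 0, 1, 0, 3, 0, 0, 3, 3],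
    [0, 0, 0, 0, 0, 3, 0, 0, 3, 0, 0, 0, 0, 0, 0, 0, 0, 2, 0, 0, 0, 0, 0, 3, 0, 0, 0, 0, 0, 0, 0, 0, 0, 0, 0, 0, 0, 0, 0, 0, 0, 3, 3],
    [0, 0, 0, 0, 0, 3, 0, 0, 3, 0, 0, 0, 0, 0, 0, 0, 0, 2, 1, 0, 0, 3, 0, 0, 0, 0, 0, 0, 0, 2, 0, 0, 0, 0, 0, 0, 0, 0, 0, 3, 0, 3, 3],
    [0, 0, 0, 0, 0, 0, 0, 0, 0, 0, 0, 0, 0, 0, 0, 0, 0, 0, 3, 1, 0, 0, 3, 3, 0, 0, 3, 3, 1, 3, 0, 0, 0, 0, 0, 0, 0, 1, 0, 0, 3, 3, 0, 2],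
    [0, 0, 0, 0, 0, 0, 0, 0, 0, 0, 0, 0, 0, 0, 0, 0, 0, 0, 0, 0, 0, 0, 0, 1, 0, 1, 0, 0, 0, 3, 0, 0, 0, 0, 0, 0, 0, 0, 0, 0, 0, 1, 0, 1],
    [0, 0, 0, 0, 0, 0, 0, 0, 0, 0, 0, 0, 0, 0, 0, 0, 0, 0, 0, 0, 0, 0, 0, 0, 0, 0, 0, 0, 0, 0, 2, 0, 0, 0, 0, 0, 1],
    [0, 0, 0, 0, 0, 0, 0, 0, 0, 0, 0, 0, 0, 0, 0, 0, 0, 0, 0, 0, 0, 0, 0, 0, 0, 0, 0, 0, 0, 0, 0, 2, 0, 0, 1, 0, 0, 0, 0, 0, 0, 0, 0, 0, 3],
    [0, 0, 0, 0, 0, 0, 0, 0, 0, 0, 0, 0, 0, 0, 0, 0, 0, 0, 0, 0, 0, 0, 0, 0, 0, 0, 0, 0, 0, 0, 0, 0, 0, 0, 3, 3],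
    [0, 0, 0, 0, 0, 0, 0, 0, 3, 0, 0, 0, 0, 0, 0, 0, 0, 0, 0, 0, 0, 0, 0, 0, 0, 0, 0, 0, 0, 0, 0, 0, 2, 0, 0, 0, 0, 0, 0, 0, 0, 0, 0, 0, 3],
    [0, 0, 0, 0, 0, 0, 0, 0, 3, 0, 0, 0, 0, 0, 0, 0, 0, 0, 0, 0, 0, 0, 0, 0, 0, 0, 0, 0, 0, 0, 0, 0, 2, 1, 1, 0, 1, 0, 0, 3, 0, 0, 0, 0, 3],
    [0, 0, 0, 0, 0, 0, 2, 0, 0, 0, 0, 0, 0, 0, 0, 1, 1, 0, 1, 1, 1, 0, 1, 3, 0, 0, 0, 1, 0, 2, 3, 3, 0, 3, 0, 3],
    [3, 3, 0, 3, 0, 3, 2, 3, 3, 3, 0, 0, 3, 3, 0, 0, 3, 0, 2, 3, 0, 0, 2, 0, 0, 2, 0, 3, 2, 1, 3, 3, 0, 3, 0, 3, 0, 0, 0, 0, 3, 0, 3, 0, 0, 0, 2],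
    [1, 0, 0, 3, 1, 3, 0, 3, 0, 0, 0, 0, 0, 0, 0, 1, 0, 0, 0, 0, 0, 0, 3, 0, 0, 0, 0, 3, 1, 3, 0, 0, 0, 3, 0, 3, 3, 0, 0, 0, 0, 0, 0, 0, 0, 0, 0, 0, 0, 0, 0, 0, 0, 0, 2],
    [0, 0, 0, 0, 0, 0, 0, 0, 0, 0, 0, 0, 1, 0, 0, 0, 0, 0, 3, 1, 0, 0, 0, 1, 0, 0, 0, 1, 1, 0, 0, 0, 0, 1, 0, 1, 0, 1, 0, 0, 3, 1, 3, 3, 3],
    [0, 0, 0, 0, 0, 0, 0, 0, 0, 0, 0, 0, 1, 0, 0, 0, 0, 0, 3, 1, 0, 0, 0, 1, 2, 0, 0, 3, 1, 3, 1, 0, 0, 0, 1],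
    [1, 0, 0, 3, 3, 3, 3, 0, 3, 0, 0, 0, 0, 0, 0, 0, 0, 0, 3, 0, 0, 0, 3, 3, 0, 0, 0, 3, 0, 3, 0, 0, 0, 0, 0, 0, 0, 0, 0, 0, 3, 3, 3, 3, 0, 0, 0, 0, 0, 0, 0, 0, 0, 0, 0, 0, 0, 0, 0, 0, 0, 0, 0, 2, 0, 0, 0, 0, 1],
    [0, 0, 0, 0, 0, 0, 0, 0, 0, 0, 0, 0, 1, 0, 0, 0, 0, 0, 0, 0, 0, 0, 3, 3, 0, 0, 0, 3, 3, 0, 0, 0, 0, 0, 0, 0, 0, 0, 0, 0, 0, 0, 1, 1],
    [0, 0, 0, 0, 0, 0, 2, 0, 0, 0, 0, 0, 1, 0, 0, 2, 0, 0, 1, 1, 0, 0, 0, 3, 1, 0, 0, 1, 0, 2, 0, 0, 0, 0, 0, 0, 0, 1, 0, 0, 0, 3, 0, 3, 0, 0, 0, 0, 0, 0, 0, 0, 0, 0, 0, 0, 0, 0, 0, 0, 0, 0, 0, 0, 0, 0, 0, 0, 1],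
    [0, 0, 0, 0, 0, 0, 1, 0, 0, 0, 0, 0, 0, 0, 0, 0, 0, 0, 1, 1, 0, 0, 1, 0, 0, 0, 0, 0, 3, 0, 0, 0, 0, 0, 0, 0, 0, 0, 0, 0, 1, 0, 0, 2, 0, 0, 0, 0, 0, 0, 0, 0, 0, 0, 0, 0, 0, 0, 0, 0, 0, 0, 0, 0, 0, 0, 0, 0, 1],
    [0, 0, 0, 0, 0, 0, 3, 0, 0, 0, 0, 0, 1, 0, 0, 3, 0, 0, 3, 0, 0, 0, 0, 0, 3, 0, 0, 0, 0, 0, 3, 0, 0, 3, 3, 0, 3],
    [0, 0, 0, 0, 3, 0, 3, 0, 1, 3, 3, 1, 0, 1, 1, 3, 1, 3, 2, 0, 1, 1, 0, 1, 3, 1, 3, 3, 0, 3, 3, 1, 0, 0, 0, 3, 0, 3, 1, 1, 3, 3, 2, 3],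
    [0, 3, 3, 0, 2, 3, 1, 3, 0, 0, 0, 3, 0, 0, 3, 0, 3, 3, 2, 0, 0, 3, 3, 3, 0, 3, 0, 3, 2, 3, 0, 3, 3, 0, 3, 0, 3, 0, 3, 3, 3, 2, 3, 2, 2, 0, 0, 0, 0, 0, 0, 0, 0, 0, 0, 0, 0, 0, 0, 0, 0, 0, 0, 0, 0, 0, 0, 0, 0, 0, 0, 0, 0, 0, 0, 0, 0, 0, 0, 0, 0, 0, 0, 2]]
  tgt := [
    ([], []),
    ([(0, 3)], [(0, 2), (1, 1), (2, 2), (3, 1), (4, 2), (6, 1), (8, 3), (9, 3), (10, 1), (11, 1), (12, 3), (13, 2), (16, 3), (17, 1), (18, 3), (19, 2), (21, 2), (22, 1), (25, 3), (26, 1), (27, 3), (29, 2), (30, 2), (31, 1), (32, 2), (33, 1), (34, 1), (36, 2), (37, 1), (38, 1), (40, 2)]),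
    ([(0, 2)], [(1, 2), (3, 2), (6, 2), (8, 2), (9, 2), (10, 2), (11, 2), (12, 2), (16, 2), (17, 2), (18, 2), (22, 2), (25, 2), (26, 2), (27, 2), (31, 2), (33, 2), (34, 2), (37, 2), (38, 2)]),
    ([(0, 2)], [(0, 2), (1, 2), (2, 1), (3, 3), (4, 3), (5, 3), (6, 3), (8, 3), (9, 3), (10, 3), (12, 3), (13, 3), (14, 1), (15, 2), (16, 2), (17, 1), (18, 3), (20, 3), (21, 2), (22, 1), (24, 3), (25, 2), (26, 1), (27, 2), (28, 1), (29, 2), (32, 3), (33, 2), (34, 2), (37, 2), (38, 2), (40, 2)]),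
    ([(0, 2)], [(0, 1), (1, 2), (2, 3), (3, 3), (4, 1), (5, 1), (8, 3), (9, 3), (10, 2), (12, 1), (13, 3), (14, 1), (15, 1), (18, 3), (20, 3), (24, 2), (25, 1), (26, 2), (28, 3), (31, 2), (33, 1), (34, 2), (35, 1), (36, 1), (37, 1), (38, 1), (40, 2)]),
    ([], [(1, 3), (3, 3), (4, 1), (5, 1), (7, 2), (8, 1), (9, 1), (10, 1), (11, 3), (12, 3), (13, 3), (15, 1), (16, 1), (18, 2), (20, 1), (21, 2), (24, 3), (26, 3), (28, 1), (29, 2), (31, 2), (32, 3), (34, 2), (35, 2), (36, 3), (37, 3), (40, 2)]),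
    ([], [(0, 3), (1, 2), (2, 1), (3, 2), (4, 2), (5, 2), (6, 3), (7, 2), (8, 3), (9, 1), (10, 2), (13, 1), (16, 1), (18, 3), (19, 1), (20, 2), (21, 2), (22, 3), (24, 2), (29, 2), (33, 2), (34, 2), (35, 2), (36, 2), (38, 2), (39, 2)]),
    ([(0, 1)], [(0, 2), (1, 3), (2, 2), (3, 3), (4, 2), (6, 3), (8, 1), (9, 1), (10, 3), (11, 3), (12, 1), (13, 2), (16, 1), (17, 3), (18, 1), (19, 2), (21, 2), (22, 3), (25, 1), (26, 3), (27, 1), (29, 2), (30, 2), (31, 3), (32, 2), (33, 3), (34, 3), (36, 2), (37, 3), (38, 3), (40, 2)]),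
    ([(0, 1)], [(0, 1), (1, 1), (2, 3), (3, 1), (4, 1), (5, 3), (6, 1), (7, 2), (8, 2), (10, 3), (11, 2), (13, 3), (14, 2), (15, 2), (16, 3), (19, 1), (20, 3), (21, 3), (22, 3), (24, 3), (25, 2), (26, 1), (28, 1), (29, 2), (30, 2), (31, 2), (32, 1), (35, 2), (36, 3), (37, 1), (39, 2), (40, 2)]),
    ([], []),
    ([(0, 3)], [(0, 2), (1, 1), (2, 2), (3, 1), (4, 2), (6, 1), (8, 3), (9, 3), (10, 1), (11, 1), (12, 3), (13, 2), (16, 3), (17, 1), (18, 3), (19, 2), (21, 2), (22, 1), (25, 3), (26, 1), (27, 3), (29, 2), (30, 2), (31, 1), (32, 2), (33, 1), (34, 1), (36, 2), (37, 1), (38, 1), (40, 2)]),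
    ([], [(0, 3), (1, 3), (2, 1), (3, 1), (4, 1), (5, 2), (6, 3), (8, 2), (10, 2), (11, 3), (12, 1), (13, 1), (14, 2), (15, 2), (16, 3), (17, 1), (18, 3), (19, 2), (22, 3), (24, 1), (25, 2), (26, 1), (27, 1), (28, 3), (29, 2), (30, 3), (31, 3), (32, 2), (33, 1), (34, 3), (35, 2), (36, 2), (37, 3), (38, 1), (39, 1)]),
    ([], [(0, 3), (1, 2), (2, 1), (3, 2), (6, 3), (7, 2), (8, 3), (9, 3), (11, 3), (14, 2), (15, 3), (16, 1), (17, 3), (18, 2), (19, 3), (20, 3), (21, 2), (22, 3), (24, 2), (29, 2), (33, 2), (35, 1), (38, 2), (39, 2)]),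
    ([], [(2, 3), (4, 3), (5, 2), (7, 1), (8, 1), (9, 2), (10, 3), (11, 2), (13, 1), (14, 2), (15, 2), (17, 1), (18, 3), (19, 1), (20, 3), (22, 3), (24, 1), (26, 1), (27, 2), (28, 3), (29, 1), (30, 3), (32, 3), (33, 2), (34, 1), (36, 2), (37, 1), (38, 2), (39, 2), (40, 2)]),
    ([], [(1, 1), (3, 3), (5, 3), (6, 3), (7, 2), (9, 3), (10, 2), (11, 1), (13, 3), (14, 3), (15, 2), (16, 1), (17, 3), (18, 1), (19, 2), (20, 1), (21, 3), (24, 1), (26, 1), (27, 2), (28, 3), (29, 1), (30, 3), (32, 3), (33, 2), (34, 1), (35, 1), (37, 3), (38, 2), (39, 2), (40, 2)]),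
    ([], [(0, 2), (1, 2), (2, 2), (3, 2), (6, 3), (8, 2), (12, 2), (13, 2), (14, 2), (15, 2), (16, 2), (17, 1), (19, 2), (20, 3), (22, 1), (26, 2), (27, 2), (28, 2), (29, 2), (30, 2), (31, 2), (34, 3), (36, 1)]),
    ([(0, 2)], [(0, 3), (2, 2), (3, 2), (4, 2), (5, 3), (6, 1), (7, 1), (8, 3), (9, 2), (10, 1), (11, 3), (12, 3), (13, 2), (14, 3), (15, 2), (16, 1), (18, 2), (19, 1), (20, 1), (21, 2), (22, 2), (35, 3), (36, 3), (37, 1)]),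
    ([(0, 2)], [(0, 3), (1, 1), (2, 2), (3, 3), (4, 2), (9, 3), (10, 1), (11, 3), (12, 1), (13, 2), (14, 3), (15, 3), (17, 2), (18, 3), (24, 3), (25, 2), (26, 3), (27, 2), (28, 3), (29, 1), (30, 3), (32, 1), (34, 1), (35, 2), (36, 3), (39, 2), (40, 2)]),
    ([], [(1, 1), (2, 3), (3, 3), (6, 1), (7, 2), (8, 2), (9, 2), (10, 1), (11, 2), (12, 2), (13, 3), (14, 1), (15, 2), (16, 1), (18, 2), (19, 1), (22, 3), (24, 1), (25, 1), (26, 3), (27, 2), (28, 2), (30, 2), (31, 2), (32, 3), (33, 1), (34, 3), (35, 2), (37, 1), (38, 1)]),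
    ([], [(0, 3), (1, 1), (2, 1), (3, 3), (4, 2), (5, 2), (6, 1), (7, 2), (9, 2), (10, 3), (11, 3), (12, 2), (13, 2), (14, 3), (16, 3), (17, 2), (18, 1), (19, 1), (20, 1), (22, 3), (24, 3), (25, 3), (26, 1), (27, 2), (28, 2), (30, 2), (31, 2), (32, 1), (33, 3), (34, 3), (35, 1), (36, 1), (38, 3)]),
    ([(0, 3)], [(1, 2), (3, 3), (5, 1), (6, 1), (7, 1), (8, 2), (9, 3), (10, 2), (12, 2), (13, 2), (15, 2), (16, 3), (18, 1), (19, 1), (20, 3), (21, 2), (24, 1), (25, 3), (26, 1), (27, 2), (28, 2), (29, 2), (30, 2), (31, 2), (32, 1), (33, 1), (34, 3), (35, 3), (36, 1), (38, 1), (39, 2)]),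
    ([(0, 1)], [(0, 1), (2, 2), (3, 2), (4, 1), (5, 3), (8, 2), (9, 2), (10, 2), (12, 3), (13, 2), (14, 1), (15, 3), (16, 1), (18, 1), (20, 2), (21, 3), (22, 2), (24, 3), (25, 3), (26, 1), (27, 2), (28, 2), (30, 2), (31, 2), (32, 1), (33, 3), (34, 3), (35, 1), (36, 1), (38, 3)]),
    ([(0, 1)], []),
    ([(0, 1)], [(0, 3), (2, 3), (6, 3), (8, 1), (9, 3), (10, 3), (11, 3), (12, 2), (13, 1), (14, 1), (16, 1), (17, 2), (18, 1), (19, 3), (20, 3), (21, 3), (22, 3), (25, 2), (26, 2), (29, 2), (32, 2), (35, 2), (36, 2), (37, 2), (39, 2)]),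
    ([], [(0, 1)]),
    ([(0, 3)], [(1, 3), (2, 1), (3, 3), (4, 2), (5, 2), (6, 2), (9, 2), (10, 1), (12, 3), (13, 2), (14, 2), (15, 3), (17, 1), (18, 2), (19, 2), (20, 3), (22, 2)]),
    ([(0, 2)], [(0, 1), (1, 1), (3, 1), (6, 1), (8, 3), (9, 1), (10, 1), (11, 3), (12, 2), (13, 1), (14, 1), (16, 2), (17, 1), (20, 2), (25, 2), (26, 2), (29, 2), (32, 2), (35, 2), (36, 2), (37, 2), (39, 2)]),
    ([], [(0, 2), (2, 2), (6, 2), (8, 2), (9, 2), (10, 3), (11, 2), (15, 2), (16, 2), (17, 2), (19, 2), (20, 2), (22, 2), (35, 2)]),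
    ([], [(0, 1), (1, 2), (2, 3), (3, 2), (4, 2), (5, 2), (6, 3), (7, 2), (8, 1), (9, 3), (10, 2), (13, 3), (16, 3), (17, 1), (18, 1), (19, 3), (21, 2), (22, 3), (24, 2), (29, 2), (33, 2), (35, 2), (38, 2), (39, 2)]),
    ([(0, 2)], [(0, 2), (1, 3), (2, 3), (3, 3), (6, 2), (7, 2), (9, 2), (11, 3), (12, 3), (14, 3), (15, 1), (16, 2), (18, 2), (19, 1), (21, 1), (22, 2), (24, 2), (25, 2), (26, 2), (32, 2), (33, 2), (36, 2), (37, 2), (38, 2)]),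
    ([], [(0, 3), (1, 2), (2, 1), (4, 3), (5, 1), (8, 3), (9, 1), (10, 3), (11, 2), (12, 1), (15, 2), (18, 3), (19, 1), (21, 3), (24, 1), (25, 3), (26, 3), (27, 1), (28, 3), (32, 1), (33, 1), (35, 2), (39, 2)]),
    ([(0, 3)], [(1, 1), (3, 2), (4, 2), (6, 2), (8, 2), (10, 2), (12, 1), (14, 3), (15, 1), (16, 2), (17, 1), (19, 2), (20, 3), (21, 3), (24, 3), (25, 2), (26, 3), (29, 3), (32, 2), (36, 1), (37, 3), (38, 3)]),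
    ([], [(0, 1), (2, 3), (4, 3), (5, 1), (6, 2), (7, 2), (8, 3), (9, 1), (10, 2), (11, 3), (12, 3), (13, 2), (14, 3), (15, 2), (16, 2), (17, 2), (19, 1), (21, 2), (22, 1), (24, 2), (25, 2), (26, 3), (28, 1), (29, 1), (30, 1), (31, 3), (32, 3), (35, 1), (36, 2), (37, 2), (38, 3), (39, 3), (40, 1)]),
    ([(0, 3)], [(0, 3), (1, 2), (2, 1), (6, 1), (8, 3), (9, 3), (10, 3), (11, 3), (12, 1), (13, 1), (14, 1), (15, 1), (19, 3), (20, 3), (22, 1), (25, 3), (26, 3), (27, 2), (28, 2), (32, 1), (35, 3), (36, 2), (37, 2), (38, 2), (39, 2)]),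
    ([(0, 1)], [(0, 1), (1, 1), (2, 3), (3, 3), (4, 1), (5, 3), (6, 3), (7, 2), (9, 2), (10, 1), (13, 1), (14, 2), (16, 1), (17, 2), (19, 1), (20, 3), (21, 3), (22, 3), (24, 3), (25, 3), (26, 3), (27, 3), (28, 1), (29, 2), (32, 1), (36, 3), (37, 1)]),
    ([(0, 3)], [(0, 3), (1, 3), (2, 1), (3, 1), (4, 3), (5, 1), (6, 1), (7, 2), (9, 2), (10, 3), (13, 3), (14, 2), (16, 3), (17, 2), (19, 3), (20, 1), (21, 1), (22, 1), (24, 1), (25, 1), (27, 1), (28, 3), (29, 2), (32, 3), (36, 1), (37, 3)]),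
    ([], [(0, 2), (2, 2), (4, 2), (5, 2), (8, 2), (9, 2), (10, 2), (12, 2), (18, 2), (19, 2), (21, 2), (24, 3), (25, 2), (26, 2), (27, 2), (28, 2), (32, 2), (33, 2)]),
    ([(0, 2)], [(0, 3), (2, 2), (4, 2), (6, 2), (7, 2), (11, 2), (12, 1), (13, 1), (14, 2), (15, 3), (16, 3), (17, 2), (18, 2), (19, 2), (21, 3), (24, 2), (25, 2), (26, 2), (32, 2), (33, 2), (35, 3), (36, 1), (37, 3), (38, 2)]),
    ([(0, 2)], [(0, 1), (1, 1), (2, 2), (3, 2), (4, 2), (5, 1), (6, 3), (7, 3), (8, 1), (9, 2), (10, 3), (11, 1), (12, 1), (13, 2), (14, 1), (15, 2), (16, 3), (18, 2), (19, 3), (20, 3), (21, 2), (22, 2), (35, 1), (36, 1), (37, 3)]),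
    ([], [(0, 2), (1, 3), (2, 2), (3, 3), (4, 3), (5, 1), (7, 2), (8, 1), (9, 3), (10, 2), (11, 3), (12, 3), (13, 2), (14, 3), (15, 1), (16, 1), (17, 2), (18, 2), (19, 2), (20, 2), (21, 1), (24, 2), (29, 2), (33, 2), (35, 3), (36, 1), (37, 3), (38, 2), (39, 2)]),
    ([], [(0, 3), (1, 2), (2, 1), (3, 2), (4, 2), (5, 2), (6, 1), (8, 1), (9, 1), (10, 1), (11, 2), (12, 2), (13, 3), (14, 1), (15, 2), (16, 3), (19, 3), (21, 3), (22, 1), (25, 2), (26, 2), (29, 2), (32, 2), (36, 2), (37, 2), (39, 2)]),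
    ([], [(0, 2), (5, 2), (6, 2), (7, 2), (8, 2), (10, 2), (11, 2), (12, 2), (14, 2), (16, 2), (18, 3), (19, 2), (20, 2), (35, 2), (36, 2), (37, 2)]),
    ([(0, 2)], [(1, 2), (2, 2), (3, 2), (4, 2), (5, 2), (6, 2), (7, 2), (8, 2), (9, 2), (10, 1), (12, 3), (13, 1), (14, 1), (15, 3), (16, 1), (17, 2), (19, 2), (20, 2), (22, 2)]),
    ([], [(0, 3), (1, 2), (2, 1), (3, 2), (6, 3), (7, 2), (8, 3), (9, 3), (10, 3), (11, 2), (12, 3), (13, 3), (14, 2), (19, 3), (21, 3), (22, 3), (25, 2), (26, 2), (29, 2), (32, 2), (35, 2), (36, 2), (37, 2), (39, 2)]),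
    ([(0, 3)], [(0, 1), (1, 3), (2, 3), (3, 3), (4, 1), (5, 3), (6, 3), (7, 2), (9, 2), (10, 1), (12, 2), (13, 1), (15, 2), (16, 1), (19, 1), (20, 1), (21, 1), (22, 3), (24, 1), (25, 2), (26, 1), (27, 3), (28, 1), (32, 1), (36, 1), (37, 3), (38, 2)])]

/-- Orbits inside the subgroup. -/
def orbits : List (ℕ × List (ℕ × List ℕ)) := [
    (1, [(0, [4]), (1, []), (3, [5]), (6, [4, 5]), (56, [2, 5]), (57, [2, 4]), (59, [1, 4]), (62, [2])]),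
    (0, [(0, []), (6, [1, 2, 4, 5])]),
    (7, [(7, []), (8, [0, 5]), (9, [0, 5, 7, 8]), (10, [7, 8]), (11, [0, 5, 7]), (12, [7]), (13, [8]), (14, [0, 5, 8])]),
    (15, [(15, []), (17, [3, 6, 8]), (19, [3]), (21, [6, 8])])]

theorem checks : certChecks 63 tab cert sw gw orbits = true := by decide +kernel

theorem lin_ok : cert.linOK = true := by decide +kernel

end CfsgLib.Lie.MultExc.SpSixTwo.P2
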