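import Cfsg.Agent.Lib.Lie.MultExc.SpSixTwo.Table

/-!
The certificate at the prime 3: a polycyclic sequence of a Sylow subgroup and conjugations.
-/

set_option autoImplicit false
set_option maxRecDepth 100000
set_option maxHeartbeats 0

namespace CfsgLib.Lie.MultExc.SpSixTwo.P3

open CfsgLib.Spor.SchurCert

/-- The Sylow elements. -/
def sw : List (List ℕ) := [
    [56, 94, 131, 164],
    [1, 108, 154, 144, 168],
    [82, 108, 118, 143, 168],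
    [10, 84, 136, 135, 167]]

/-- The conjugating elements. -/
def gw : List (List ℕ) := [
    [90, 151, 148, 167, 174],
    [50, 106, 154, 156],
    [62, 122, 118, 144, 174]]

/-- The certificate. -/
def cert : CfsgLib.Spor.SchurCert.Cert where
  p := 3
  m := 4
  N := 3
  rules := [
    ([0, 0, 0], []),
    ([1, 1, 1], [3]),
    ([2, 2, 2], []),
    ([3, 3, 3], []),
    ([1, 0], [0, 1, 2, 2, 3, 3]),
    ([2, 0], [0, 2]),
    ([2, 1], [1, 2, 3, 3]),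
    ([3, 0], [0, 3]),
    ([3, 1], [1, 3]),
    ([3, 2], [2, 3])]
  maps := [
    [([0, 1], [0, 1]), ([2], [0, 0, 1, 1, 3]), ([3], [3])],
    [([0], [0]), ([1], [0, 1, 1, 2, 2]), ([2], [2, 2]), ([3], [3])],
    [([0], [0, 0, 2, 3, 3]), ([1], [0, 0, 1]), ([2], [2, 2, 3, 3]), ([3], [3, 3])]]
  overlaps := [
    ([1, 1, 1, 1], [(1, 0), (8, 0)], [(1, 1)]),
    ([1, 1, 1, 0], [(1, 0), (7, 0)], [(4, 2), (4, 1), (4, 0), (8, 5), (8, 4), (6, 3), (6, 2), (9, 5), (9, 4), (3, 5), (3, 5), (2, 3), (8, 5), (8, 4), (6, 3), (1, 1), (9, 1), (3, 2), (9, 3), (9, 2), (9, 4), (9, 3), (2, 1), (3, 1)]),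
    ([1, 0, 0, 0], [(0, 1)], [(4, 0), (7, 5), (7, 4), (5, 3), (5, 2), (4, 1), (9, 6), (9, 5), (2, 3), (9, 4), (9, 3), (3, 4), (7, 4), (5, 3), (4, 2), (0, 0), (9, 4), (9, 3), (2, 1), (3, 1)]),
    ([2, 2, 2, 1], [(2, 0)], [(6, 2), (6, 1), (6, 0), (9, 3), (9, 2), (3, 3), (9, 3), (2, 1), (3, 1)]),
    ([2, 1, 1, 1], [(1, 1)], [(6, 0), (8, 3), (8, 2), (6, 1), (3, 3), (8, 3), (6, 2), (1, 0), (9, 0), (3, 1)])]
  fuses := [
    ⟨0, [1, 1, 1], [], [(2, 0)], [], [(7, 4), (4, 3), (4, 2), (0, 0), (8, 4), (8, 3), (6, 2), (6, 1), (9, 4), (9, 3), (3, 4), (3, 4), (2, 2), (3, 3), (5, 2), (4, 1), (4, 0), (8, 5), (8, 4), (6, 3), (6, 2), (9, 5), (9, 4), (3, 5), (3, 5), (2, 3), (9, 5), (9, 4), (8, 6), (8, 5), (6, 4), (6, 3), (1, 1), (9, 1), (3, 2), (3, 3), (8, 3), (6, 2), (6, 1), (9, 4), (9, 3), (3, 4), (3, 4), (5, 3), (5, 2), (4, 1), (9, 6), (9, 5), (2, 3), (9, 4), (9,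 3), (7, 5), (7, 4), (5, 3), (4, 2), (0, 0), (9, 4), (9, 3), (2, 1), (3, 1), (8, 1), (8, 2), (1, 0), (3, 0)], []⟩,
    ⟨1, [2, 0], [0, 2], [(5, 0)], [], [(5, 1), (5, 0)], []⟩,
    ⟨2, [0, 0, 0], [], [(0, 0)], [], [(7, 4), (7, 3), (5, 2), (0, 0), (7, 2), (7, 1), (5, 0), (9, 3), (9, 2), (3, 3), (7, 3), (5, 2), (5, 1), (7, 4), (5, 3), (5, 2), (0, 0), (9, 2), (2, 0), (3, 0)], []⟩]
  adj := [
    [],
    [],
    [(1, 2), (4, 2)],
    [(1, 1)]]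
  base := []
  dense := [
    [0, 0, 0, 0, 0, 0, 0, 0, 1],
    [0, 0, 1, 2, 0, 0, 0, 1, 2, 2],
    [0, 0, 1, 1],
    [0, 0, 0, 1],
    [0, 0, 0, 1, 0, 0, 0, 0, 0, 2],
    [1, 1, 0, 1, 0, 2, 1],
    [0, 0, 0, 0, 0, 2],
    [2, 0, 2, 1]]
  tgt := [
    ([], [(2, 2), (3, 2), (7, 2)]),
    ([], []),
    ([], [(2, 1), (3, 2)]),
    ([], [(3, 1)]),
    ([], []),
    ([], [(6, 2)]),
    ([], [(2, 1), (5, 1), (6, 2), (7, 1)]),
    ([], [(0, 1), (1, 1), (2, 2), (4, 2)]),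
    ([], [(0, 1)]),
    ([], [(3, 1), (4, 2)])]

/-- Orbits inside the subgroup. -/
def orbits : List (ℕ × List (ℕ × List ℕ)) := [
    (1, [(0, [2, 3]), (1, []), (3, [1, 1, 3]), (6, [2, 2]), (9, [0, 3]), (10, [1, 2, 2, 3]), (11, [1, 1, 2, 3, 3]), (17, [0]), (20, [1, 2, 3]), (22, [1, 1, 2]), (23, [0, 3, 3]), (25, [1]), (26, [1, 1, 2, 3]), (33, [2, 2, 3, 3]), (36, [2, 2, 3]), (37, [1, 3]), (41, [2, 3, 3]), (42, [2]), (46, [0, 1, 1]), (49, [1, 2, 2, 3, 3]), (51, [3]), (53, [3, 3]), (56, [1, 2, 2]), (57, [1, 2]), (58, [0, 2]), (59, [0, 0]), (62, [1, 1])]),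
    (0, [(0, []), (41, [0, 1, 3, 3]), (42, [0, 0, 1, 1, 2, 2, 3])])]

theorem checks : certChecks 63 tab cert sw gw orbits = true := by decide +kernel

theorem lin_ok : cert.linOK = true := by decide +kernel

end CfsgLib.Lie.MultExc.SpSixTwo.P3
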