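import Cfsg.Agent.Lib.Lie.MultExc.SpSixTwo.Group
import Cfsg.Agent.Lib.Lie.MultExc.SpSixTwo.CoverData
import Cfsg.Agent.Lib.Lie.MultExc.SpSixTwo.P2
import Cfsg.Agent.Lib.Lie.MultExc.SpSixTwo.P3

/-!
The Schur multiplier of the symplectic group in six dimensions over two elements has order two.
-/

set_option autoImplicit false
set_option maxRecDepth 100000

namespace CfsgLib.Lie.MultExc.SpSixTwo

open CfsgLib.Spor.SchurCert

theorem cert_facts : (P2.cert.p = 2 ∧ P2.cert.N = 2 ^ 2 ∧ P2.cert.bound = 2 ∧ P2.cert.m = 9) ∧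
    (P3.cert.p = 3 ∧ P3.cert.N = 3 ^ 1 ∧ P3.cert.bound = 1 ∧ P3.cert.m = 4) ∧
    (tab.trans.map List.length).prod = 1451520 := by
  decide +kernel

theorem ker_dvd {H : Subgroup (Equiv.Perm (Fin 63))} (M : Model 63 tab H) {Γ : Type*} [Group Γ] [Finite Γ]
    (τ : Γ →* ↥H) (hτ : Cfsg.IsStemExtension τ) : Nat.card τ.ker ∣ 2 := by
  obtain ⟨⟨hp, hN, hbd, hm⟩, ⟨hp', hN', hbd', hm'⟩, hord⟩ := cert_facts
  refine card_dvd_of_parts τ.ker (by norm_num) fun ℓ hℓ P hP hPp => ?_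
  by_cases h2 : ℓ = 2
  · subst h2
    have h := part_le M hτ P2.cert (by rw [hp]; norm_num) (e := 2) (by rw [hp, hN]) (by rw [hbd, hN]; norm_num)
      (r := 2835) (by rw [hp]; norm_num) (by rw [hp, hm, hord]; norm_num) P2.checks P2.lin_ok P hP (by rw [hp]; exact hPp)
    rw [hbd] at h
    refine h.trans (le_of_eq ?_)
    rw [hℓ.factorization_self, pow_one]
  refine le_trans ?_ (Nat.one_le_pow _ _ hℓ.pos)
  by_cases h3 : ℓ = 3
  · subst h3
    have h := part_le M hτ P3.cert (by rw [hp']; norm_num) (e := 1) (by rw [hp', hN']) (by rw [hbd', hN']; norm_num)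
      (r := 17920) (by rw [hp']; norm_num) (by rw [hp', hm', hord]; norm_num) P3.checks P3.lin_ok P hP (by rw [hp']; exact hPp)
    rwa [hbd'] at h
  by_cases h5 : ℓ = 5
  · subst h5
    exact part_once M hτ hℓ (r := 290304) (by rw [hord]) (by norm_num) P hP hPp
  by_cases h7 : ℓ = 7
  · subst h7
    exact part_once M hτ hℓ (r := 207360) (by rw [hord]) (by norm_num) P hP hPp
  refine part_other M hτ hℓ ?_ P hP hPp
  rw [hord, show (1451520 : ℕ) = 2 ^ 9 * (3 ^ 4 * (5 * 7)) by norm_num]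
  intro hd
  rcases hℓ.dvd_mul.1 hd with h | h
  · exact h2 ((Nat.prime_dvd_prime_iff_eq hℓ Nat.prime_two).1 (hℓ.dvd_of_dvd_pow h))
  rcases hℓ.dvd_mul.1 h with h | h
  · exact h3 ((Nat.prime_dvd_prime_iff_eq hℓ Nat.prime_three).1 (hℓ.dvd_of_dvd_pow h))
  rcases hℓ.dvd_mul.1 h with h | h
  · exact h5 ((Nat.prime_dvd_prime_iff_eq hℓ (by norm_num)).1 h)
  · exact h7 ((Nat.prime_dvd_prime_iff_eq hℓ (by norm_num)).1 h)

/-- The kernel of the covering group. -/
def kerEquiv : Multiplicative ((i : Fin 1) → ZMod (layers i).m) ≃* Multiplicative (ZMod 2) where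
  toFun f := Multiplicative.ofAdd (f.toAdd 0 : ZMod 2)
  invFun q := Multiplicative.ofAdd fun i => Fin.cases (q.toAdd : ZMod 2) (fun k => k.elim0) i
  left_inv f := by
    apply Multiplicative.toAdd.injective
    funext i
    fin_cases i
    rfl
  right_inv q := rfl
  map_mul' f g := rfl

universe u

theorem multiplier_PSp62 {F : Type u} [Field F] [Fintype F] (hF : Fintype.card F = 2) :
    Cfsg.HasCyclicSchurMultiplier (Cfsg.PSp 3 F) 2 := by
  obtain ⟨H, M, ⟨e⟩⟩ := exists_spModel hF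
  have : Finite (Cfsg.PSp 3 F) := Finite.of_equiv _ e.toEquiv
  obtain ⟨σ, hσ, hH⟩ := M.gens
  obtain ⟨Γ, _, _, τ, hτ, ⟨k⟩⟩ := exists_cover gens_ok comms_ok σ hσ H hH
  refine hasSchurMultiplier_of_cover_bound e hτ ⟨k.trans kerEquiv⟩ fun Δ _ _ π hπ => ?_
  rw [Nat.card_congr Multiplicative.toAdd, Nat.card_zmod]
  exact ker_dvd M π hπ

end CfsgLib.Lie.MultExc.SpSixTwo
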